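import Mathlib

/-! Limits of adic systems of finite modules over a complete Noetherian ring. -/

universe u

namespace FormalLimLib

variable {A : Type u} [CommRing A] {r : ℕ}

lemma mem_smul_top_iff (J : Ideal A) (x : Fin r → A) :
    x ∈ (J • ⊤ : Submodule A (Fin r → A)) ↔ ∀ i, x i ∈ J := by
  constructor
  · intro hx i
    refine Submodule.smul_induction_on (p := fun y : Fin r → A => y i ∈ J) hx ?_ ?_
    · exact fun a ha y _ => J.mul_mem_right _ ha
    · exact fun y z hy hz => J.add_mem hy hz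
  · intro h
    rw [pi_eq_sum_univ x]
    exact Submodule.sum_mem _ fun i _ => Submodule.smul_mem_smul (h i) trivial

lemma exists_limit {I : Ideal A} [IsPrecomplete I A] (a : ℕ → Fin r → A) (N : ℕ)
    (h : ∀ n, a (n + 1) - a n ∈ (I ^ (N + n) • ⊤ : Submodule A (Fin r → A))) :
    ∃ l, ∀ n, l - a n ∈ (I ^ (N + n) • ⊤ : Submodule A (Fin r → A)) := by
  have hle : ∀ m n, m ≤ n → a n - a m ∈ (I ^ (N + m) • ⊤ : Submodule A (Fin r → A)) := by
    intro m n hmn
    induction n, hmn using Nat.le_induction with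
    | base => simp
    | succ n hn ih =>
      have := Submodule.smul_mono_left (N := (⊤ : Submodule A (Fin r → A)))
        (Ideal.pow_le_pow_right (I := I) (show N + m ≤ N + n by omega)) (h n)
      simpa using add_mem this ih
  let f : Fin r → ℕ → A := fun i k => if k ≤ N then a 0 i else a (k - N) i
  have hf : ∀ i m n, m ≤ n → f i m ≡ f i n [SMOD (I ^ m • ⊤ : Submodule A A)] := by
    intro i m n hmn
    rw [SModEq.sub_mem, smul_eq_mul, Ideal.mul_top, ← neg_sub, neg_mem_iff]
    simp only [f]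
    split_ifs with h1 h2
    · simp
    · exfalso; omega
    · exact Ideal.pow_le_pow_right (by omega) ((mem_smul_top_iff _ _).1 (hle 0 (n - N) (Nat.zero_le _)) i)
    · exact Ideal.pow_le_pow_right (by omega) ((mem_smul_top_iff _ _).1 (hle (m - N) (n - N) (by omega)) i)
  choose l hl using fun i => IsPrecomplete.prec ‹_› (hf i _ _)
  refine ⟨l, fun n => (mem_smul_top_iff _ _).2 fun i => ?_⟩
  have h1 := hl i (N + n)
  rw [SModEq.sub_mem, smul_eq_mul, Ideal.mul_top, ← neg_mem_iff, neg_sub] at h1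
  convert h1 using 2
  simp only [f]
  split_ifs with h2
  · rw [show n = 0 by omega]; rfl
  · rw [Nat.add_sub_cancel_left]; rfl

variable {I : Ideal A} {M : ℕ → Type u} [∀ n, AddCommGroup (M n)] [∀ n, Module A (M n)]
  (f : ∀ n, M (n + 1) →ₗ[A] M n)

lemma exists_generators [∀ n, Module.Finite A (M n)] (hf : ∀ n, Function.Surjective (f n))
    (hk : ∀ n, I ^ (n + 1) • (⊤ : Submodule A (M n)) = ⊥)
    (hker : ∀ n, LinearMap.ker (f n) = I ^ (n + 1) • (⊤ : Submodule A (M (n + 1)))) :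
    ∃ (r : ℕ) (φ : ∀ n, (Fin r → A) →ₗ[A] M n),
      (∀ n, Function.Surjective (φ n)) ∧ ∀ n, (f n).comp (φ (n + 1)) = φ n := by
  obtain ⟨r, φ₀, hφ₀⟩ := Module.Finite.exists_fin' A (M 0)
  let φ : ∀ n, (Fin r → A) →ₗ[A] M n := fun n => Nat.rec φ₀
    (fun n ψ => (Module.projective_lifting_property (f n) ψ (hf n)).choose) n
  have hφ : ∀ n, (f n).comp (φ (n + 1)) = φ n := fun n =>
    (Module.projective_lifting_property (f n) (φ n) (hf n)).choose_spec
  refine ⟨r, φ, fun n => ?_, hφ⟩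
  induction n with
  | zero => exact hφ₀
  | succ n ih =>
    rw [← LinearMap.range_eq_top]
    have h1 : (⊤ : Submodule A (M (n + 1))) ≤
        LinearMap.range (φ (n + 1)) ⊔ I • (⊤ : Submodule A (M (n + 1))) := by
      intro y _
      obtain ⟨x, hx⟩ := ih (f n y)
      have hmem : y - φ (n + 1) x ∈ LinearMap.ker (f n) := by
        rw [LinearMap.mem_ker, map_sub, ← LinearMap.comp_apply (f n), hφ n, hx, sub_self]
      rw [hker] at hmem
      exact Submodule.mem_sup.2 ⟨_, ⟨x, rfl⟩, _, Submodule.smul_mono_left (Ideal.pow_le_self n.succ_ne_zero) hmem,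
        add_sub_cancel _ _⟩
    have h2 : ∀ k, (⊤ : Submodule A (M (n + 1))) ≤
        LinearMap.range (φ (n + 1)) ⊔ I ^ k • (⊤ : Submodule A (M (n + 1))) := by
      intro k
      induction k with
      | zero => simp
      | succ k hk' =>
        refine le_trans hk' (sup_le le_sup_left ?_)
        refine le_trans (Submodule.smul_mono le_rfl h1) ?_
        rw [Submodule.smul_sup, ← Submodule.smul_assoc, smul_eq_mul, ← pow_succ]
        exact sup_le_sup_right Submodule.smul_le_right _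
    have h3 := h2 (n + 2)
    rw [hk (n + 1), sup_bot_eq] at h3
    exact top_le_iff.1 h3

lemma exists_preimage [IsPrecomplete I A] (hk : ∀ n, I ^ (n + 1) • (⊤ : Submodule A (M n)) = ⊥)
    (hker : ∀ n, LinearMap.ker (f n) = I ^ (n + 1) • (⊤ : Submodule A (M (n + 1))))
    (φ : ∀ n, (Fin r → A) →ₗ[A] M n) (hs : ∀ n, Function.Surjective (φ n))
    (hφ : ∀ n, (f n).comp (φ (n + 1)) = φ n)
    (x : ∀ n, M n) (hx : ∀ n, f n (x (n + 1)) = x n) (N : ℕ) (a₀ : Fin r → A)
    (ha₀ : φ N a₀ = x N) :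
    ∃ a, a - a₀ ∈ (I ^ (N + 1) • ⊤ : Submodule A (Fin r → A)) ∧ ∀ n, φ n a = x n := by
  have step : ∀ n a, φ n a = x n → ∃ a', φ (n + 1) a' = x (n + 1) ∧
      a' - a ∈ (I ^ (n + 1) • ⊤ : Submodule A (Fin r → A)) := by
    intro n a ha
    obtain ⟨b, hb⟩ := hs (n + 1) (x (n + 1))
    have hmem : φ (n + 1) (b - a) ∈ LinearMap.ker (f n) := by
      rw [LinearMap.mem_ker, map_sub, map_sub, hb, hx, ← LinearMap.comp_apply (f n), hφ, ha, sub_self]
    rw [hker, ← LinearMap.range_eq_top.2 (hs (n + 1)), LinearMap.range_eq_map,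
      ← Submodule.map_smul''] at hmem
    obtain ⟨δ, hδ, hδ'⟩ := hmem
    refine ⟨a + δ, ?_, by simpa using hδ⟩
    rw [map_add, hδ', map_sub, hb, add_sub_cancel]
  choose nxt hn1 hn2 using step
  let seq : ∀ j, {a // φ (N + j) a = x (N + j)} := fun j =>
    Nat.rec ⟨a₀, ha₀⟩ (fun j a => ⟨nxt _ a.1 a.2, hn1 _ a.1 a.2⟩) j
  obtain ⟨l, hl⟩ := exists_limit (I := I) (fun j => (seq j).1) (N + 1) fun j => by
    rw [show N + 1 + j = N + j + 1 by omega]
    exact hn2 (N + j) (seq j).1 (seq j).2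
  have hkill : ∀ n b, b ∈ (I ^ (n + 1) • ⊤ : Submodule A (Fin r → A)) → φ n b = 0 := by
    intro n b hb
    have := Submodule.mem_map_of_mem (f := φ n) hb
    rw [Submodule.map_smul''] at this
    have h2 := Submodule.smul_mono (le_refl (I ^ (n + 1))) le_top this
    rwa [hk, Submodule.mem_bot] at h2
  refine ⟨l, hl 0, fun n => ?_⟩
  have hdown : ∀ m, n ≤ m → φ m l = x m → φ n l = x n := by
    intro m hm
    induction m, hm using Nat.le_induction with
    | base => exact id
    | succ m _ ih => intro h; exact ih (by rw [← hφ m, LinearMap.comp_apply, h, hx])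
  refine hdown (N + n) (by omega) ?_
  have hl' := hl n
  rw [show N + 1 + n = N + n + 1 by omega] at hl'
  have := hkill _ _ hl'
  rwa [map_sub, sub_eq_zero, (seq n).2] at this

theorem main [IsPrecomplete I A] [∀ n, Module.Finite A (M n)]
    (hf : ∀ n, Function.Surjective (f n))
    (hk : ∀ n, I ^ (n + 1) • (⊤ : Submodule A (M n)) = ⊥)
    (hker : ∀ n, LinearMap.ker (f n) = I ^ (n + 1) • (⊤ : Submodule A (M (n + 1))))
    (L : Submodule A (∀ n, M n)) (hL : ∀ x : ∀ n, M n, x ∈ L ↔ ∀ n, f n (x (n + 1)) = x n) :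
    Module.Finite A L ∧ ∀ n, Function.Surjective ((LinearMap.proj n).comp L.subtype : L →ₗ[A] M n) ∧
      LinearMap.ker ((LinearMap.proj n).comp L.subtype : L →ₗ[A] M n) =
        I ^ (n + 1) • (⊤ : Submodule A L) := by
  obtain ⟨r, φ, hs, hφ⟩ := exists_generators f hf hk hker
  let Φ : (Fin r → A) →ₗ[A] L := (LinearMap.pi φ).codRestrict L fun a =>
    (hL _).2 fun n => LinearMap.congr_fun (hφ n) a
  have hΦ : Function.Surjective Φ := fun x => by
    obtain ⟨a₀, ha₀⟩ := hs 0 (x.1 0)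
    obtain ⟨a, -, ha⟩ := exists_preimage f hk hker φ hs hφ x.1 ((hL _).1 x.2) 0 a₀ ha₀
    exact ⟨a, Subtype.ext (funext ha)⟩
  refine ⟨Module.Finite.of_surjective Φ hΦ, fun n => ⟨fun y => ?_, le_antisymm ?_ ?_⟩⟩
  · obtain ⟨a, ha⟩ := hs n y
    exact ⟨Φ a, ha⟩
  · intro x hx
    obtain ⟨a, ha, ha'⟩ := exists_preimage f hk hker φ hs hφ x.1 ((hL _).1 x.2) n 0
      (by rw [map_zero]; exact (LinearMap.mem_ker.1 hx).symm)
    rw [sub_zero] at ha
    have : x = Φ a := Subtype.ext (funext fun m => (ha' m).symm)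
    rw [this, ← LinearMap.range_eq_top.2 hΦ, LinearMap.range_eq_map, ← Submodule.map_smul'']
    exact Submodule.mem_map_of_mem ha
  · intro x hx
    have h := Submodule.mem_map_of_mem (f := (LinearMap.proj n).comp L.subtype) hx
    rw [Submodule.map_smul''] at h
    have h2 := Submodule.smul_mono (le_refl (I ^ (n + 1))) le_top h
    rwa [hk, Submodule.mem_bot, ← LinearMap.mem_ker] at h2

end FormalLimLib
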