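import Groth.Agent.FormalLimVanishLib.Main
import Groth.Agent.FormalLib.ModPow
import Groth.Agent.FormalProLib.Quot
import Groth.Agent.GrSysLib.Formal
import Groth.Agent.QCohLib.SerreCrit

/-!
# Limits of quasi-coherent formal modules for a finitely generated ideal
-/

set_option autoImplicit false

universe u

open CategoryTheory CategoryTheory.Limits AlgebraicGeometry Opposite TopologicalSpace
open FormalLib (Sec secMap toSec)

noncomputable section

namespace FormalLimLib

section Alg

variable {A : Type*} [CommRing A] {J : Ideal A} {M : ℕ → Type*} [∀ n, AddCommGroup (M n)] [∀ n, Module A (M n)]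
  (t : ∀ n, M (n + 1) →ₗ[A] M n)

include t in
/-- A compatible family extending an element. -/
theorem exists_compat (ht : ∀ n, Function.Surjective (t n)) (n : ℕ) (x : M n) :
    ∃ y : ∀ m, M m, (∀ m, t m (y (m + 1)) = y m) ∧ y n = x := by
  classical
  induction n with
  | zero =>
    refine ⟨fun m => m.rec x fun m ym => (ht m ym).choose, fun m => ?_, rfl⟩
    exact (ht m _).choose_spec
  | succ n ih =>
    obtain ⟨y, hy, hyn⟩ := ih (t n x)
    let z : ∀ m, M m := fun m => m.rec (y 0) fun m zm =>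
      if h : m = n then h ▸ x else
        if m < n then y (m + 1) else (ht m zm).choose
    have hlt : ∀ m, m ≤ n → z m = y m := by
      intro m hm
      cases m with
      | zero => rfl
      | succ m =>
        show (if h : m = n then h ▸ x else if m < n then y (m + 1) else _) = _
        rw [dif_neg (by omega), if_pos (by omega)]
    have hzn : z (n + 1) = x := by
      show (if h : n = n then h ▸ x else _) = _
      rw [dif_pos rfl]
    refine ⟨z, fun m => ?_, hzn⟩
    rcases lt_trichotomy m n with h | rfl | h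
    · rw [hlt (m + 1) h, hlt m h.le, hy]
    · rw [hzn, hlt m le_rfl, hyn]
    · show t m (if h : m = n then h ▸ x else if m < n then y (m + 1) else (ht m (z m)).choose) = z m
      rw [dif_neg (by omega), if_neg (by omega)]
      exact (ht m _).choose_spec

variable (hker : ∀ n x, t n x = 0 ↔ x ∈ J ^ (n + 1) • (⊤ : Submodule A (M (n + 1))))
  (ht : ∀ n, Function.Surjective (t n))

/-- The iterated map. -/
def iter (n : ℕ) : ∀ d, M (n + d) →ₗ[A] M n
  | 0 => LinearMap.id
  | d + 1 => (iter n d).comp (t (n + d))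

include hker in
lemma iter_eq_zero_of_mem (n d : ℕ) (x : M (n + d)) (hkill : ∀ y : M n, ∀ a ∈ J ^ (n + 1), a • y = 0)
    (hx : x ∈ J ^ (n + 1) • (⊤ : Submodule A (M (n + d)))) : iter t n d x = 0 := by
  refine Submodule.smul_induction_on hx (fun a ha m _ => ?_) fun a b ha hb => by rw [map_add, ha, hb, add_zero]
  rw [map_smul]
  exact hkill _ a ha

/-- Iterated transitions of a compatible family. -/
lemma iter_compat (y : ∀ m, M m) (hy : ∀ m, t m (y (m + 1)) = y m) (n : ℕ) : ∀ d, iter t n d (y (n + d)) = y n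
  | 0 => rfl
  | d + 1 => by
    show iter t n d (t (n + d) (y (n + d + 1))) = _
    rw [hy, iter_compat y hy n d]

include hker ht in
lemma mem_of_iter_eq_zero (n : ℕ) : ∀ d, ∀ x : M (n + d), iter t n d x = 0 →
    x ∈ J ^ (n + 1) • (⊤ : Submodule A (M (n + d)))
  | 0, x, hx => by
    rw [show x = 0 from hx]
    exact zero_mem _
  | d + 1, x, hx => by
    have h := mem_of_iter_eq_zero n d _ hx
    rw [← LinearMap.range_eq_top.2 (ht (n + d)), LinearMap.range_eq_map, ← Submodule.map_smul''] at h
    obtain ⟨x', hx', e⟩ := h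
    have h2 : x - x' ∈ J ^ (n + d + 1) • (⊤ : Submodule A (M (n + d + 1))) := (hker _ _).1 (by rw [map_sub, e, sub_self])
    have := add_mem (Submodule.smul_mono_left (Ideal.pow_le_pow_right (by omega : n + 1 ≤ n + d + 1)) h2) hx'
    rwa [sub_add_cancel] at this

variable {r : ℕ} (a : Fin r → A)

include hker ht in
/-- **Compatible families vanishing at one level are combinations of compatible families.** -/
theorem exists_eq_sum (hkill : ∀ n, ∀ y : M n, ∀ b ∈ J ^ (n + 1), b • y = 0) (n : ℕ)
    (ha : Ideal.span (Set.range a) = J ^ (n + 1)) (y : ∀ m, M m) (hy : ∀ m, t m (y (m + 1)) = y m) (h0 : y n = 0) :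
    ∃ z : Fin r → ∀ m, M m, (∀ i m, t m (z i (m + 1)) = z i m) ∧ ∀ m, y m = ∑ i, a i • z i m := by
  classical
  let Good : ∀ d, (Fin r → M (n + d)) → Prop := fun d w => ∑ i, a i • w i = y (n + d)
  have step : ∀ d (w : Fin r → M (n + d)), Good d w → ∃ w' : Fin r → M (n + d + 1),
      Good (d + 1) w' ∧ ∀ i, t (n + d) (w' i) - w i ∈ J ^ d • (⊤ : Submodule A (M (n + d))) := by
    intro d w hw
    choose l hl using fun i => ht (n + d) (w i)
    have h1 : y (n + d + 1) - ∑ i, a i • l i ∈ J ^ (n + d + 1) • (⊤ : Submodule A (M (n + d + 1))) := by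
      refine (hker _ _).1 ?_
      rw [map_sub, map_sum, hy]
      simp only [map_smul, hl]
      exact sub_eq_zero.2 hw.symm
    have h2 : ∀ v ∈ J ^ (n + d + 1) • (⊤ : Submodule A (M (n + d + 1))),
        ∃ e : Fin r → M (n + d + 1), (∀ i, e i ∈ J ^ d • (⊤ : Submodule A (M (n + d + 1)))) ∧ ∑ i, a i • e i = v := by
      intro v hv
      have hpow : J ^ (n + d + 1) = J ^ (n + 1) * J ^ d := by rw [← pow_add]; congr 1; omega
      rw [hpow, Submodule.mul_smul] at hv
      refine Submodule.smul_induction_on hv (fun c hc m hm => ?_) ?_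
      · rw [← ha, Ideal.mem_span_range_iff_exists_fun] at hc
        obtain ⟨f, rfl⟩ := hc
        refine ⟨fun i => f i • m, fun i => Submodule.smul_mem _ _ hm, ?_⟩
        rw [Finset.sum_smul]
        exact Finset.sum_congr rfl fun i _ => by rw [smul_smul, mul_comm]
      · rintro v w ⟨e, he, rfl⟩ ⟨f, hf, rfl⟩
        exact ⟨e + f, fun i => add_mem (he i) (hf i), by simp only [Pi.add_apply, smul_add, Finset.sum_add_distrib]⟩
    obtain ⟨e, he, hsum⟩ := h2 _ h1
    refine ⟨fun i => l i + e i, ?_, fun i => ?_⟩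
    · show ∑ i, a i • (l i + e i) = _
      simp only [smul_add, Finset.sum_add_distrib]
      rw [hsum]
      exact add_sub_cancel _ _
    · rw [map_add, hl, add_sub_cancel_left]
      have := Submodule.mem_map_of_mem (f := t (n + d)) (he i)
      rw [Submodule.map_smul''] at this
      exact Submodule.smul_mono le_rfl le_top this
  let w : ∀ d, {w : Fin r → M (n + d) // Good d w} := fun d => Nat.rec
    ⟨0, by show ∑ i, a i • (0 : Fin r → M n) i = y n; simp [h0]⟩
    (fun d wd => ⟨(step d wd.1 wd.2).choose, (step d wd.1 wd.2).choose_spec.1⟩) d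
  have hw : ∀ d i, t (n + d) ((w (d + 1)).1 i) - (w d).1 i ∈ J ^ d • (⊤ : Submodule A (M (n + d))) := fun d i =>
    (step d (w d).1 (w d).2).choose_spec.2 i
  choose g hg hgc using fun (i : Fin r) (d : ℕ) => exists_compat t ht (n + d) ((w d).1 i)
  have hd : ∀ i m d, m + 1 ≤ d → g i (d + 1) m = g i d m := by
    intro i m d hmd
    obtain ⟨k, hk⟩ := Nat.le.dest (show m ≤ n + d by omega)
    have e1 : ∀ q : ℕ, ∀ hq : m + k = q, iter t m k (hq ▸ (g i (d + 1) q - g i d q) : M (m + k)) =
        g i (d + 1) m - g i d m := by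
      rintro q rfl
      rw [map_sub, iter_compat t _ (hg i (d + 1)) m k, iter_compat t _ (hg i d) m k]
    have e2 : g i (d + 1) (n + d) - g i d (n + d) ∈ J ^ d • (⊤ : Submodule A (M (n + d))) := by
      rw [← hg i (d + 1) (n + d), show g i (d + 1) (n + d + 1) = (w (d + 1)).1 i from hgc i (d + 1), hgc]
      exact hw d i
    have e3 : ∀ q : ℕ, ∀ hq : m + k = q, ∀ v ∈ J ^ d • (⊤ : Submodule A (M q)),
        iter t m k (hq ▸ v : M (m + k)) = 0 := by
      rintro q rfl v hv
      exact iter_eq_zero_of_mem t hker m k v (fun z => hkill m z)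
        (Submodule.smul_mono_left (Ideal.pow_le_pow_right hmd) hv)
    rw [← sub_eq_zero, ← e1 _ hk]
    exact e3 _ hk _ e2
  have hd' : ∀ i m d, m + 1 ≤ d → g i d m = g i (m + 1) m := fun i m d hmd => by
    induction d, hmd using Nat.le_induction with
    | base => rfl
    | succ d hmd ih => rw [hd i m d hmd, ih]
  refine ⟨fun i m => g i (m + 1) m, fun i m => ?_, fun m => ?_⟩
  · show t m (g i (m + 1 + 1) (m + 1)) = _
    rw [hg, hd' i m (m + 1 + 1) (by omega)]
  · let d := m + 1
    have e1 : ∀ q, q = n + d → (∑ i, a i • g i d q) = y q := by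
      rintro q rfl
      simp only [hgc]
      exact (w d).2
    have hsum : ∀ q, t q (∑ i, a i • g i d (q + 1)) = ∑ i, a i • g i d q := fun q => by
      rw [map_sum]
      simp only [map_smul, hg]
    obtain ⟨k, hk⟩ := Nat.le.dest (show m ≤ n + d by omega)
    rw [← iter_compat t y hy m k, ← e1 _ hk, iter_compat t (fun q => ∑ i, a i • g i d q) hsum m k]

end Alg

variable {A : Type u} [CommRing A] {I : Ideal A} {X : Scheme.{u}} [X.Over (Spec (CommRingCat.of A))]
  {G : ℕᵒᵖ ⥤ X.Modules}

/-- Multiples by a finitely generated ideal, on modules. -/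
lemma smulFamily_comp_eq_zero {J : Ideal A} {r : ℕ} (a : Fin r → A) (ha : Ideal.span (Set.range a) = J)
    {M T : X.Modules} (ψ : M ⟶ T) (h : ∀ i, Formal.smulMod A M (a i) ≫ ψ = 0) :
    Formal.smulFamily J M ≫ ψ = 0 := by
  refine Sigma.hom_ext _ _ fun b => ?_
  rw [comp_zero, ← Category.assoc, show Sigma.ι (fun _ : ↥J => M) b ≫ Formal.smulFamily J M =
    Formal.smulMod A M (b : A) from Sigma.ι_desc _ _]
  have hb : (b : A) ∈ Submodule.span A (Set.range a) := ha.ge b.2
  generalize (b : A) = c at hb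
  induction hb using Submodule.span_induction with
  | mem y hy => obtain ⟨i, rfl⟩ := hy; exact h i
  | zero =>
    have h0 : Formal.smulMod A M 0 = 0 := by
      have := FormalLib.smulMod_add M (0 : A) 0
      rw [add_zero] at this
      exact left_eq_add.1 this
    rw [h0, zero_comp]
  | add y z _ _ hy hz => rw [FormalLib.smulMod_add, Preadditive.add_comp, hy, hz, add_zero]
  | smul c y _ hy => rw [smul_eq_mul, mul_comm, FormalLib.smulMod_mul, Category.assoc, hy, comp_zero]

lemma surjective_of_epi {M N : X.Modules} [Coh.IsQCoh M] (φ : M ⟶ N) [Epi φ] [Coh.IsQCoh N] {U : X.Opens}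
    (hU : IsAffineOpen U) : Function.Surjective (φ.app U) := by
  have hS : (ShortComplex.mk _ _ (kernel.condition φ)).ShortExact :=
    { exact := ShortComplex.exact_of_f_is_kernel _ (kernelIsKernel φ) }
  have : Coh.IsQCoh (ShortComplex.mk _ _ (kernel.condition φ)).X₁ := QCohLib.isQCoh_kernel φ
  exact QCohLib.app_surjective_of_affine hS hU

lemma exists_gen {J : Ideal A} (hJ : J.FG) : ∃ (r : ℕ) (a : Fin r → A), Ideal.span (Set.range a) = J := by
  obtain ⟨r, a, h⟩ := Submodule.fg_iff_exists_fin_generating_family.1 hJ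
  exact ⟨r, a, h⟩

lemma mem_smul_of_modPowπ_eq_zero (M : X.Modules) [Coh.IsQCoh M] (n : ℕ) (hI : I.FG) {U : X.Opens}
    (hU : IsAffineOpen U) (x : Sec A M U) (hx : secMap (Formal.modPowπ I n M) U x = 0) :
    x ∈ (I ^ n • ⊤ : Submodule A (Sec A M U)) := by
  classical
  obtain ⟨r, a, ha⟩ := exists_gen (Submodule.FG.pow hI n)
  have haI : ∀ i, a i ∈ I ^ n := fun i => ha.le (Submodule.subset_span ⟨i, rfl⟩)
  let q := biproduct.desc (fun i : Fin r => Formal.smulMod A M (a i))
  have w : q ≫ Formal.modPowπ I n M = 0 :=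
    biproduct.hom_ext' _ _ fun i => by rw [biproduct.ι_desc_assoc, FormalLib.smulMod_modPowπ M I n (haI i), comp_zero]
  have hex : (ShortComplex.mk _ _ w).Exact := ShortComplex.exact_of_g_is_cokernel _
    (CokernelCofork.IsColimit.ofπ' _ w fun {T} ψ hψ => ⟨cokernel.desc _ ψ (smulFamily_comp_eq_zero a ha ψ fun i => by
      have := congrArg (fun t => biproduct.ι (fun _ : Fin r => M) i ≫ t) hψ
      simpa [q] using this), cokernel.π_desc _ _ _⟩)
  have hP : Coh.IsQCoh (⨁ fun _ : Fin r => M) :=
    have : Coh.IsQCoh (∐ fun _ : ULift.{u} (Fin r) => M) := QCohLib.isQCoh_sigma _ fun _ => ‹_›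
    QCohLib.isQCoh_of_iso ((biproduct.isoCoproduct _).symm ≪≫
      biproduct.whiskerEquiv Equiv.ulift fun _ => Iso.refl M)
  have : Coh.IsQCoh (Formal.modPow I n M) :=
    have : Coh.IsQCoh (∐ fun _ : ↥(I ^ n) => M) := QCohLib.isQCoh_sigma _ fun _ => ‹_›
    QCohLib.isQCoh_cokernel _
  let K := kernel (Formal.modPowπ I n M)
  have hK : Coh.IsQCoh K := QCohLib.isQCoh_kernel _
  let Φ : (⨁ fun _ : Fin r => M) ⟶ K := kernel.lift _ _ w
  have : Epi Φ := (ShortComplex.exact_iff_epi_kernel_lift _).1 hex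
  obtain ⟨k, hk⟩ := QCohLib.exists_of_app_eq_zero
    (ShortComplex.exact_of_f_is_kernel (ShortComplex.mk _ _ (kernel.condition (Formal.modPowπ I n M)))
      (kernelIsKernel _)) (inferInstanceAs (Mono (kernel.ι _))) _ hx
  obtain ⟨e, rfl⟩ := surjective_of_epi Φ hU k
  have hx' : x = secMap q U e := by
    rw [show q = Φ ≫ kernel.ι (Formal.modPowπ I n M) from (kernel.lift_ι _ _ _).symm]
    exact hk.symm
  rw [hx']
  suffices ∀ t : Finset (Fin r), secMap (∑ j ∈ t, biproduct.π (fun _ : Fin r => M) j ≫ Formal.smulMod A M (a j)) U e ∈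
      (I ^ n • ⊤ : Submodule A (Sec A M U)) from by
    rw [show q = ∑ j : Fin r, biproduct.π (fun _ : Fin r => M) j ≫ Formal.smulMod A M (a j) from biproduct.desc_eq]
    exact this _
  intro t
  induction t using Finset.induction_on with
  | empty => exact zero_mem _
  | insert j t hj ih =>
    rw [Finset.sum_insert hj]
    refine add_mem ?_ ih
    exact Submodule.smul_mem_smul (haI j) (trivial :
      secMap (biproduct.π (fun _ : Fin r => M) j) U e ∈ (⊤ : Submodule A (Sec A M U)))

variable (hI : I.FG) (hG : Formal2.IsQCohFormal I G)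

include hG in
lemma epi_tr (n : ℕ) : Epi (GrSysLib.trMap G n) := by
  obtain ⟨h, hi⟩ := hG.2.2 n
  rw [← cokernel.π_desc _ (GrSysLib.trMap G n) h]
  have : Epi (cokernel.desc _ (GrSysLib.trMap G n) h) := @IsIso.epi_of_iso _ _ _ _ _ hi
  exact @epi_comp _ _ _ _ _ _ coequalizer.π_epi _ this

include hG in
lemma tr_surjective (n : ℕ) {U : X.Opens} (hU : IsAffineOpen U) :
    Function.Surjective (secMap (A := A) (GrSysLib.trMap G n) U) := by
  have := hG.1 n
  have := hG.1 (n + 1)
  have := epi_tr hG n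
  exact surjective_of_epi (GrSysLib.trMap G n) hU

include hG hI in
lemma tr_eq_zero_iff (n : ℕ) {U : X.Opens} (hU : IsAffineOpen U) (x : Sec A (G.obj (op (n + 1))) U) :
    secMap (GrSysLib.trMap G n) U x = 0 ↔ x ∈ (I ^ (n + 1) • ⊤ : Submodule A (Sec A (G.obj (op (n + 1))) U)) := by
  have := hG.1 (n + 1)
  obtain ⟨h, hi⟩ := hG.2.2 n
  rw [← cokernel.π_desc _ (GrSysLib.trMap G n) h]
  show (cokernel.desc _ (GrSysLib.trMap G n) h).app U ((Formal.modPowπ I (n + 1) _).app U x) = 0 ↔ _
  refine ⟨fun hx => mem_smul_of_modPowπ_eq_zero _ _ hI hU x ?_, fun hx => ?_⟩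
  · have := hi
    exact QCohLib.app_injective_of_mono (cokernel.desc _ (GrSysLib.trMap G n) h) U (hx.trans (map_zero _).symm)
  · exact (congrArg _ (FormalLib.secMap_modPowπ_eq_zero _ I (n + 1) U hx)).trans (map_zero _)

include hG in
lemma smul_sec_eq_zero (n : ℕ) (U : X.Opens) (y : Sec A (G.obj (op n)) U) (b : A) (hb : b ∈ I ^ (n + 1)) :
    b • y = 0 := by
  rw [← FormalLib.smulMod_app, hG.2.1 n b hb]
  rfl

include hI hG in
/-- **The projections of the limit identify the members with the quotients of the limit.** -/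
theorem exists_isIso_desc (n : ℕ) :
    ∃ h : Formal.smulFamily (I ^ (n + 1)) (limit G) ≫ limit.π G (op n) = 0,
      IsIso (cokernel.desc _ _ h) := by
  classical
  have hkπ : Formal.smulFamily (I ^ (n + 1)) (limit G) ≫ limit.π G (op n) = 0 :=
    Sigma.hom_ext _ _ fun b => by
      rw [comp_zero, Formal.smulFamily, Sigma.ι_desc_assoc, FormalProLib.smulMod_natural, hG.2.1 n b.1 b.2]
      exact comp_zero
  refine ⟨hkπ, ?_⟩
  have htS := fun (U : X.Opens) (hU : IsAffineOpen U) m => tr_surjective hG m hU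
  have : Epi (limit.π G (op n)) := QCohLib.epi_of_surjective_on_affines _ fun V s p hp => by
    obtain ⟨W, hW, hpW, hWV⟩ := Opens.isBasis_iff_nbhd.mp X.isBasis_affineOpens hp
    refine ⟨W, hWV, hpW, ?_⟩
    obtain ⟨y, hy, hyn⟩ := exists_compat (M := fun m => Sec A (G.obj (op m)) W) (fun m => secMap (A := A) (GrSysLib.trMap G m) W) (htS W hW) n
      (toSec A _ W ((G.obj (op n)).presheaf.map (homOfLE hWV).op s))
    obtain ⟨z, hz⟩ := FormalLimVanishLib.exists_limit_section (G := G) W y hy
    exact ⟨z, (hz n).trans hyn⟩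
  obtain ⟨r, a, ha⟩ := exists_gen (Submodule.FG.pow hI (n + 1))
  have haI : ∀ i, a i ∈ I ^ (n + 1) := fun i => ha.le (Submodule.subset_span ⟨i, rfl⟩)
  let q := biproduct.desc (fun i : Fin r => Formal.smulMod A (limit G) (a i))
  have hq : q ≫ limit.π G (op n) = 0 := biproduct.hom_ext' _ _ fun i => by
    rw [biproduct.ι_desc_assoc, FormalProLib.smulMod_natural, hG.2.1 n _ (haI i)]
    simp
  have hex : (ShortComplex.mk _ _ hq).Exact := by
    rw [ShortComplex.exact_iff_epi_kernel_lift]
    refine QCohLib.epi_of_surjective_on_affines _ fun V s p hp => ?_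
    obtain ⟨W, hW, hpW, hWV⟩ := Opens.isBasis_iff_nbhd.mp X.isBasis_affineOpens hp
    refine ⟨W, hWV, hpW, ?_⟩
    let x : Γ(limit G, W) := (kernel.ι (limit.π G (op n))).app W ((kernel (limit.π G (op n))).presheaf.map (homOfLE hWV).op s)
    let y : ∀ m, Sec A (G.obj (op m)) W := fun m => toSec A _ W ((limit.π G (op m)).app W x)
    have hy : ∀ m, secMap (GrSysLib.trMap G m) W (y (m + 1)) = y m := fun m =>
      congrArg (fun φ => Scheme.Modules.Hom.app φ W x) (limit.w G (homOfLE (Nat.le_succ m)).op)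
    have hyn : y n = 0 :=
      (congrArg (fun φ => Scheme.Modules.Hom.app φ W ((kernel (limit.π G (op n))).presheaf.map (homOfLE hWV).op s))
        (kernel.condition (limit.π G (op n)))).trans rfl
    obtain ⟨z, hz, hzy⟩ := exists_eq_sum (J := I) (M := fun m => Sec A (G.obj (op m)) W) (fun m => secMap (A := A) (GrSysLib.trMap G m) W)
      (fun m v => tr_eq_zero_iff hI hG m hW v) (htS W hW) a (fun m v b hb => smul_sec_eq_zero hG m W v b hb) n ha
      y hy hyn
    choose zz hzz using fun i => FormalLimVanishLib.exists_limit_section (G := G) W (fun m => z i m) (hz i)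
    refine ⟨(∑ i : Fin r, (biproduct.ι (fun _ : Fin r => limit G) i).app W (zz i)), ?_⟩
    refine QCohLib.app_injective_of_mono (kernel.ι (limit.π G (op n))) W ?_
    refine (congrArg (fun φ => Scheme.Modules.Hom.app φ W
      (∑ i : Fin r, (biproduct.ι (fun _ : Fin r => limit G) i).app W (zz i))) (kernel.lift_ι _ q hq)).trans ?_
    show q.app W _ = x
    rw [map_sum]
    refine FormalLimVanishLib.limit_section_ext (G := G) W _ _ fun m => ?_
    rw [map_sum]
    refine Eq.trans ?_ (hzy m).symm
    refine Finset.sum_congr rfl fun i _ => ?_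
    refine (congrArg (fun φ => Scheme.Modules.Hom.app φ W (zz i)) (show biproduct.ι (fun _ : Fin r => limit G) i ≫ q ≫
      limit.π G (op m) = limit.π G (op m) ≫ Formal.smulMod A _ (a i) by
        rw [biproduct.ι_desc_assoc, FormalProLib.smulMod_natural])).trans ?_
    show (Formal.smulMod A _ (a i)).app W ((limit.π G (op m)).app W (zz i)) = _
    rw [hzz]
    exact FormalLib.smulMod_app (G.obj (op m)) (a i) W (z i m)
  have : Epi (ShortComplex.mk _ _ hq).g := ‹Epi (limit.π G (op n))›
  have hc := hex.gIsCokernel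
  obtain ⟨v, hv⟩ := CokernelCofork.IsColimit.desc' hc
    (cokernel.π (Formal.smulFamily (I ^ (n + 1)) (limit G))) (biproduct.hom_ext' _ _ fun i => by
      have e : Sigma.ι (fun _ : ↥(I ^ (n + 1)) => limit G) ⟨a i, haI i⟩ ≫ Formal.smulFamily (I ^ (n + 1)) (limit G) =
          Formal.smulMod A (limit G) (a i) := Sigma.ι_desc _ _
      rw [biproduct.ι_desc_assoc, ← e, Category.assoc, cokernel.condition, comp_zero, comp_zero])
  refine ⟨v, coequalizer.hom_ext ?_, (cancel_epi (limit.π G (op n))).1 ?_⟩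
  · show cokernel.π _ ≫ cokernel.desc _ _ hkπ ≫ v = cokernel.π _ ≫ 𝟙 _
    rw [cokernel.π_desc_assoc, Category.comp_id]
    exact hv
  · rw [Category.comp_id, ← Category.assoc]
    exact (congrArg (· ≫ cokernel.desc _ _ hkπ) hv).trans (cokernel.π_desc _ _ _)

end FormalLimLib

end
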